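import Groth.Agent.Lib.Fitting.Local
import Groth.Agent.Lib.Fitting.Support
import Groth.Agent.Lib.FlatFP.Sheaf
import Groth.Agent.Lib.QCoh.FT

/-!
# Fitting ideal sheaves of modules of finite type: values and germs
-/

set_option autoImplicit false

universe u

open CategoryTheory Opposite AlgebraicGeometry TopologicalSpace

namespace GrothLib.FittSheaf

variable {X : Scheme.{u}}

/-- Ideals of functions on an affine open are determined by their germs. -/
theorem ideal_eq_of_germ {U : X.Opens} (hU : IsAffineOpen U) {I J : Ideal Γ(X, U)}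
    (h : ∀ (x : X) (hx : x ∈ U), I.map (X.presheaf.germ U x hx).hom = J.map (X.presheaf.germ U x hx).hom) :
    I = J := by
  have key : ∀ I J : Ideal Γ(X, U),
      (∀ (x : X) (hx : x ∈ U), I.map (X.presheaf.germ U x hx).hom ≤ J.map (X.presheaf.germ U x hx).hom) → I ≤ J := by
    intro I J h r hr
    let C : Ideal Γ(X, U) := Submodule.comap (LinearMap.toSpanSingleton Γ(X, U) Γ(X, U) r) J
    have h1 : (1 : Γ(X, U)) ∈ C := FlatFP.one_mem_of_forall_point hU C fun y hy => by
      letI := X.presheaf.algebra_section_stalk ⟨y, hy⟩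
      haveI := FlatFP.isLocalization_stalk_primeAt hU hy
      have hmem : algebraMap Γ(X, U) (X.presheaf.stalk y) r ∈ J.map (algebraMap Γ(X, U) (X.presheaf.stalk y)) :=
        h y hy (Ideal.mem_map_of_mem _ hr)
      obtain ⟨d, hd, hdr⟩ := (IsLocalization.algebraMap_mem_map_algebraMap_iff
        (WeakAss.primeAt y hy).primeCompl (X.presheaf.stalk y) J r).1 hmem
      exact ⟨d, hdr, hd⟩
    simpa [C] using h1
  exact le_antisymm (key I J fun x hx => (h x hx).le) (key J I fun x hx => (h x hx).ge)

variable (M : X.Modules) [M.IsQuasicoherent]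

/-- The germ of a Fitting ideal is the Fitting ideal of the stalk. -/
theorem map_germ_ideal {U : X.Opens} (hU : IsAffineOpen U) [Module.Finite Γ(X, U) Γ(M, U)] {x : X} (hx : x ∈ U)
    (k : ℕ) : (Fitt.ideal Γ(X, U) Γ(M, U) k).map (X.presheaf.germ U x hx).hom =
      Fitt.ideal (X.presheaf.stalk x) (M.presheaf.stalk x) k := by
  letI := X.presheaf.algebra_section_stalk ⟨x, hx⟩
  haveI := FlatFP.isLocalization_stalk_primeAt hU hx
  letI : Module Γ(X, U) (M.presheaf.stalk x) := Module.compHom _ (X.presheaf.germ U x hx).hom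
  haveI : IsScalarTower Γ(X, U) (X.presheaf.stalk x) (M.presheaf.stalk x) :=
    IsScalarTower.of_algebraMap_smul fun _ _ => rfl
  obtain ⟨g, hg, -⟩ := FlatFP.isLocalizedModule_germ M hU hx
  exact (Fitting.ideal_of_isBaseChange (X.presheaf.stalk x)
    (IsLocalizedModule.isBaseChange (WeakAss.primeAt x hx).primeCompl (X.presheaf.stalk x) g) k).symm

variable {M} (hM : CohB1.IsFT M)
include hM

theorem finite_sections (U : X.affineOpens) : Module.Finite Γ(X, U.1) Γ(M, U.1) :=
  QCoh.moduleFinite_of_isFiniteType M hM U.2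

/-- Fitting ideals are compatible with basic opens. -/
theorem map_ideal_basicOpen (k : ℕ) (U : X.affineOpens) (f : Γ(X, U.1)) :
    (Fitt.ideal Γ(X, U.1) Γ(M, U.1) k).map (X.presheaf.map (homOfLE <| X.basicOpen_le f).op).hom =
      Fitt.ideal Γ(X, (X.affineBasicOpen f).1) Γ(M, (X.affineBasicOpen f).1) k := by
  have := finite_sections hM U
  have := finite_sections hM (X.affineBasicOpen f)
  refine ideal_eq_of_germ (U.2.basicOpen f) fun x hx => ?_
  rw [Ideal.map_map]
  erw [map_germ_ideal M (X.affineBasicOpen f).2 hx]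
  rw [← map_germ_ideal M U.2 (X.basicOpen_le f hx)]
  congr 1
  exact RingHom.ext fun a => TopCat.Presheaf.germ_res_apply X.presheaf _ x hx a

/-- The value of the Fitting ideal sheaf on an affine open. -/
theorem sheafIdeal_ideal (k : ℕ) (U : X.affineOpens) :
    (Fitt.sheafIdeal M k).ideal U = Fitt.ideal Γ(X, U.1) Γ(M, U.1) k := by
  let D : X.IdealSheafData :=
    { ideal := fun U => Fitt.ideal Γ(X, U.1) Γ(M, U.1) k
      map_ideal_basicOpen := map_ideal_basicOpen hM k }
  have h : Fitt.sheafIdeal M k = D := Scheme.IdealSheafData.ofIdeals_ideal D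
  rw [h]

/-- The germ of the Fitting ideal sheaf. -/
theorem map_germ_sheafIdeal (k : ℕ) (U : X.affineOpens) {x : X} (hx : x ∈ U.1) :
    ((Fitt.sheafIdeal M k).ideal U).map (X.presheaf.germ U.1 x hx).hom =
      Fitt.ideal (X.presheaf.stalk x) (M.presheaf.stalk x) k := by
  have := finite_sections hM U
  rw [sheafIdeal_ideal hM, map_germ_ideal M U.2 hx]

theorem finite_stalk (x : X) : Module.Finite (X.presheaf.stalk x) (M.presheaf.stalk x) := by
  obtain ⟨U, hU, hx, -⟩ := exists_isAffineOpen_mem_and_subset (x := x) (U := ⊤) trivial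
  have := finite_sections hM ⟨U, hU⟩
  letI := X.presheaf.algebra_section_stalk ⟨x, hx⟩
  haveI := FlatFP.isLocalization_stalk_primeAt hU hx
  letI : Module Γ(X, U) (M.presheaf.stalk x) := Module.compHom _ (X.presheaf.germ U x hx).hom
  haveI : IsScalarTower Γ(X, U) (X.presheaf.stalk x) (M.presheaf.stalk x) :=
    IsScalarTower.of_algebraMap_smul fun _ _ => rfl
  obtain ⟨g, hg, -⟩ := FlatFP.isLocalizedModule_germ M hU hx
  exact Module.Finite.of_isLocalizedModule (WeakAss.primeAt x hx).primeCompl g

/-- Outside the support of the Fitting ideal sheaf: the ideal is not inside the prime of the point. -/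
theorem notMem_support_iff_not_le (k : ℕ) (U : X.affineOpens) {x : X} (hx : x ∈ U.1) :
    x ∉ (Fitt.sheafIdeal M k).support ↔ ¬ Fitt.ideal Γ(X, U.1) Γ(M, U.1) k ≤ WeakAss.primeAt x hx := by
  rw [Scheme.IdealSheafData.mem_support_iff_of_mem hx, Scheme.mem_zeroLocus_iff, sheafIdeal_ideal hM]
  refine not_congr ⟨fun h r hr => ?_, fun h r hr hxr => ?_⟩
  · by_contra hne
    exact h r hr (WeakAss.notMem_primeAt_iff.1 hne)
  · exact (WeakAss.notMem_primeAt_iff (hx := hx)).2 hxr (h hr)

end GrothLib.FittSheaf
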