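import Groth.Agent.Lib.QCoh.FT
import Groth.Agent.Lib.QCoh.Locality
import Groth.Agent.Lib.OX.LocFreeTensor
import Groth.Prelude.Def_CohB1

/-!
# Inverse images of quasi-coherent modules and of modules of finite type
-/

set_option autoImplicit false

universe u

open CategoryTheory CategoryTheory.Limits Opposite AlgebraicGeometry TopologicalSpace

namespace GrothLib.FittSheaf

variable {X Y : Scheme.{u}} (f : Y ⟶ X)

/-- The inverse image, restricted to an open, in terms of the restriction. -/
noncomputable def pullRestrictIso {U : X.Opens} {V : Y.Opens} (e : V ≤ f ⁻¹ᵁ U) (M : X.Modules) :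
    (Scheme.Modules.pullback (f.resLE U V e)).obj (M.restrict U.ι) ≅
      ((Scheme.Modules.pullback f).obj M).restrict V.ι :=
  (Scheme.Modules.pullback (f.resLE U V e)).mapIso ((Scheme.Modules.restrictFunctorIsoPullback U.ι).app M) ≪≫
    (Scheme.Modules.pullbackComp (f.resLE U V e) U.ι).app M ≪≫
    (Scheme.Modules.pullbackCongr (Scheme.Hom.resLE_comp_ι f e)).app M ≪≫
    ((Scheme.Modules.pullbackComp V.ι f).app M).symm ≪≫
    ((Scheme.Modules.restrictFunctorIsoPullback V.ι).app ((Scheme.Modules.pullback f).obj M)).symm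

theorem exists_cover :
    IsOpenCover (fun p : {p : X.affineOpens × Y.affineOpens // p.2.1 ≤ f ⁻¹ᵁ p.1.1} => p.1.2.1) := by
  rw [IsOpenCover, eq_top_iff]
  intro y _
  obtain ⟨U, hU, hyU, -⟩ := exists_isAffineOpen_mem_and_subset (x := f y) (U := ⊤) trivial
  obtain ⟨V, hV, hyV, hVU⟩ := exists_isAffineOpen_mem_and_subset (x := y) (U := f ⁻¹ᵁ U) hyU
  exact Opens.mem_iSup.2 ⟨⟨(⟨U, hU⟩, ⟨V, hV⟩), hVU⟩, hyV⟩

set_option backward.isDefEq.respectTransparency false in
/-- Inverse images of quasi-coherent modules are quasi-coherent. -/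
theorem isQuasicoherent_pullback (M : X.Modules) [M.IsQuasicoherent] :
    ((Scheme.Modules.pullback f).obj M).IsQuasicoherent := by
  refine QCoh.isQuasicoherent_of_presentation _ (exists_cover f) fun p => ?_
  let g := f.resLE p.1.1.1 p.1.2.1 p.2
  have : PreservesColimitsOfSize.{u, u} (Scheme.Modules.pullback g) :=
    (Scheme.Modules.pullbackPushforwardAdjunction g).leftAdjoint_preservesColimits
  let P := QCoh.presentationAffine p.1.1.2 M Set.univ Submodule.span_univ _ (Submodule.span_eq _)
  exact SheafOfModules.Presentation.ofIsIso.{u, u, u} (pullRestrictIso f p.2 M).hom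
    (P.map (Scheme.Modules.pullback g) (OX.pullUnitIso g).symm)

set_option backward.isDefEq.respectTransparency false in
/-- Sections of the inverse image of a module of finite type over affine opens are finite. -/
theorem moduleFinite_pullback (M : X.Modules) [M.IsQuasicoherent] (hM : CohB1.IsFT M) {V : Y.Opens}
    (hV : IsAffineOpen V) : Module.Finite Γ(Y, V) Γ((Scheme.Modules.pullback f).obj M, V) := by
  have := isQuasicoherent_pullback f M
  refine QCoh.moduleFinite_of_isFiniteType _ ?_ hV
  refine QCoh.isFiniteType_of_moduleFinite _ _ (exists_cover f) (fun p => p.1.2.2) fun p => ?_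
  have hfin := QCoh.moduleFinite_of_isFiniteType M hM p.1.1.2
  have := Module.Finite.equiv (QCoh.topLinearEquiv p.1.1.2 M).symm
  obtain ⟨s, hs⟩ := this.fg_top
  let g := f.resLE p.1.1.1 p.1.2.1 p.2
  have : PreservesColimitsOfSize.{u, u} (Scheme.Modules.pullback g) :=
    (Scheme.Modules.pullbackPushforwardAdjunction g).leftAdjoint_preservesColimits
  let G := (QCoh.presentationAffine p.1.1.2 M (s : Set _) hs _ (Submodule.span_eq _)).generators
  have : Finite G.I := (s.finite_toSet.to_subtype :)
  have : G.IsFiniteType := ⟨this⟩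
  exact QCoh.moduleFinite_of_generatingSections_restrict p.1.2.2 _
    ((G.map (Scheme.Modules.pullback g) (OX.pullUnitIso g).symm).ofEpi (pullRestrictIso f p.2 M).hom)

end GrothLib.FittSheaf
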