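import Groth.Agent.Lib.FittSheaf.Pullback
import Groth.Agent.Lib.FlatFP.Kernel

/-!
# Inverse images of finitely presented modules
-/

set_option autoImplicit false

universe u

open CategoryTheory CategoryTheory.Limits Opposite AlgebraicGeometry TopologicalSpace

namespace GrothLib.FittSheaf

variable {X Y : Scheme.{u}} (f : Y ⟶ X)

set_option backward.isDefEq.respectTransparency false in
/-- Inverse images of finitely presented modules are finitely presented. -/
theorem isFP_pullback (M : X.Modules) [M.IsQuasicoherent] (hM : CohB1.IsFP M) :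
    CohB1.IsFP ((Scheme.Modules.pullback f).obj M) := by
  let ι := {p : X.affineOpens × Y.affineOpens // p.2.1 ≤ f ⁻¹ᵁ p.1.1}
  let U : ι → Y.Opens := fun p => p.1.2.1
  have hfp (p : ι) :=
    have := FlatFP.finitePresentation_sections M hM p.1.1.2
    Module.FinitePresentation.of_equiv (R := Γ(X, p.1.1.1)) (QCoh.topLinearEquiv p.1.1.2 M).symm
  choose s hs using fun p ↦ (hfp p).out
  let t (p : ι) := ((hs p).2).choose
  have ht (p : ι) := ((hs p).2).choose_spec
  have hg (p : ι) : PreservesColimitsOfSize.{u, u} (Scheme.Modules.pullback (f.resLE p.1.1.1 p.1.2.1 p.2)) :=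
    (Scheme.Modules.pullbackPushforwardAdjunction _).leftAdjoint_preservesColimits
  let P (p : ι) := QCoh.presentationAffine p.1.1.2 M (s p) (hs p).1 (t p) (ht p)
  let Q (p : ι) := SheafOfModules.Presentation.ofIsIso.{u, u, u} (pullRestrictIso f p.2 M).hom
    ((P p).map (Scheme.Modules.pullback (f.resLE p.1.1.1 p.1.2.1 p.2)) (OX.pullUnitIso _).symm)
  have hs' p : Finite (QCoh.presentationOver (Q p)).generators.I := (s p).finite_toSet.to_subtype
  have ht' p : Finite (QCoh.presentationOver (Q p)).relations.I := (t p).finite_toSet.to_subtype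
  let q : SheafOfModules.QuasicoherentData.{u} (R := Y.ringCatSheaf) ((Scheme.Modules.pullback f).obj M) :=
    { I := ι, X := U,
      coversTop := (Opens.coversTop_iff _ U).2 (exists_cover f),
      presentation := fun p ↦ QCoh.presentationOver (Q p) }
  have hq : q.IsFinitePresentation := by constructor; intro p; exact ⟨⟨hs' p⟩, ⟨ht' p⟩⟩
  constructor
  exact ⟨q, hq⟩

end GrothLib.FittSheaf
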