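import Groth.Agent.Lib.FinCov.FrameFree
import Groth.Agent.Lib.AssPts.Restrict
import Groth.Agent.Lib.QCoh.SupportExact

/-!
# Epimorphisms from finite free modules onto restrictions, through spans of germs
-/

set_option autoImplicit false

universe u

open CategoryTheory CategoryTheory.Limits Opposite AlgebraicGeometry TopologicalSpace
open GrothLib.FinCov (one proj)

namespace GrothLib.FittSheaf

variable {X : Scheme.{u}}

/-- The sections images of the standard basis. -/
noncomputable def basisImage {n : ℕ} {N : X.Modules} (π : FlatMod.freeMod X n ⟶ N) (i : Fin n) : Γ(N, ⊤) :=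
  (Sigma.ι (fun _ : Fin n => Coh.structureModule X) i ≫ π).app ⊤ (one X ⊤)

theorem app_eq_sum {n : ℕ} {N : X.Modules} (π : FlatMod.freeMod X n ⟶ N) (W : X.Opens)
    (x : Γ(FlatMod.freeMod X n, W)) :
    π.app W x = ∑ i, (show Γ(X, W) from (proj X n i).app W x) •
      N.presheaf.map (homOfLE (le_top : W ≤ ⊤)).op (basisImage π i) := by
  have hx : x = ∑ i, (proj X n i ≫ Sigma.ι (fun _ : Fin n => Coh.structureModule X) i).app W x := by
    rw [← GrothLib.FinCov.sum_app, GrothLib.FinCov.sum_proj_ι]; rfl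
  conv_lhs => rw [hx]
  rw [map_sum]
  refine Finset.sum_congr rfl fun i _ => ?_
  have hn := congr($(((Sigma.ι (fun _ : Fin n => Coh.structureModule X) i ≫ π).mapPresheaf.naturality
    (homOfLE (le_top : W ≤ ⊤)).op)) (one X ⊤))
  have h1 : (Coh.structureModule X).presheaf.map (homOfLE (le_top : W ≤ ⊤)).op (one X ⊤) = one X W :=
    map_one ((X.presheaf.map (homOfLE (le_top : W ≤ ⊤)).op).hom)
  have hn' : (Sigma.ι (fun _ : Fin n => Coh.structureModule X) i ≫ π).app W (one X W) =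
      N.presheaf.map (homOfLE (le_top : W ≤ ⊤)).op (basisImage π i) := by
    rw [← h1]; exact hn
  rw [← hn', ← Scheme.Modules.Hom.app_smul, GrothLib.FinCov.smul_one]
  rfl

/-- The image of a stalk of a free module. -/
theorem range_stalk_free {n : ℕ} {N : X.Modules} (π : FlatMod.freeMod X n ⟶ N) (y : X) :
    LinearMap.range (QCoh.stalkLin π y) =
      Submodule.span (X.presheaf.stalk y) (Set.range fun i => N.presheaf.germ ⊤ y trivial (basisImage π i)) := by
  refine le_antisymm ?_ (Submodule.span_le.2 ?_)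
  · rintro _ ⟨v, rfl⟩
    obtain ⟨W, hW, x, rfl⟩ := TopCat.Presheaf.exists_germ_eq (FlatMod.freeMod X n).presheaf v
    rw [QCoh.stalkLin_germ, app_eq_sum, map_sum]
    refine Submodule.sum_mem _ fun i _ => ?_
    rw [WeakAss.germ_smul, TopCat.Presheaf.germ_res_apply]
    exact Submodule.smul_mem _ _ (Submodule.subset_span ⟨i, rfl⟩)
  · rintro _ ⟨i, rfl⟩
    exact ⟨(FlatMod.freeMod X n).presheaf.germ ⊤ y trivial
      ((Sigma.ι (fun _ : Fin n => Coh.structureModule X) i).app ⊤ (one X ⊤)), QCoh.stalkLin_germ π (U := ⊤) trivial _⟩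

theorem epi_iff_span {n : ℕ} {N : X.Modules} (π : FlatMod.freeMod X n ⟶ N) :
    Epi π ↔ ∀ y : X, Submodule.span (X.presheaf.stalk y)
      (Set.range fun i => N.presheaf.germ ⊤ y trivial (basisImage π i)) = ⊤ := by
  rw [GrothLib.OX.epi_iff]
  refine forall_congr' fun y => ?_
  rw [← range_stalk_free, LinearMap.range_eq_top, ModuleCat.epi_iff_surjective]
  rfl

theorem basisImage_desc {n : ℕ} {N : X.Modules} (g : Fin n → Γ(N, ⊤)) (i : Fin n) :
    basisImage (Sigma.desc fun i => GrothLib.FinCov.homOfSection (g i) :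
      FlatMod.freeMod X n ⟶ N) i = g i := by
  rw [basisImage, Sigma.ι_desc, GrothLib.FinCov.homOfSection_one]
  rw [show (homOfLE (le_top : (⊤ : X.Opens) ≤ ⊤)).op = 𝟙 _ from rfl, CategoryTheory.Functor.map_id]
  rfl

/-- The stalks of a restriction, with germs. -/
theorem exists_restrict_germ (F : X.Modules) (U : X.Opens) (y : (U : Scheme.{u})) :
    ∃ (ψ : (U : Scheme.{u}).presheaf.stalk y →+* X.presheaf.stalk (U.ι y))
      (φ : (F.restrict U.ι).presheaf.stalk y →+ F.presheaf.stalk (U.ι y)),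
      Function.Bijective ψ ∧ Function.Bijective φ ∧ (∀ c z, φ (c • z) = ψ c • φ z) ∧
      ∀ (V : (U : Scheme.{u}).Opens) (hV : y ∈ V) (t : Γ(F.restrict U.ι, V)),
        φ ((F.restrict U.ι).presheaf.germ V y hV t) = F.presheaf.germ (U.ι ''ᵁ V) (U.ι y) ⟨y, hV, rfl⟩ t := by
  let φ : (F.restrict U.ι).presheaf.stalk y →+ F.presheaf.stalk (U.ι y) :=
    ((Scheme.Modules.restrictStalkNatIso U.ι y).app F).hom.hom
  let ψ : (U : Scheme.{u}).presheaf.stalk y →+* X.presheaf.stalk (U.ι y) := (U.stalkIso y).hom.hom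
  have hφ : ∀ (V : (U : Scheme.{u}).Opens) (hV : y ∈ V) (t : Γ(F.restrict U.ι, V)),
      φ ((F.restrict U.ι).presheaf.germ V y hV t) =
        F.presheaf.germ (U.ι ''ᵁ V) (U.ι y) ⟨y, hV, rfl⟩ t := fun V hV t =>
    ConcreteCategory.congr_hom
      (Scheme.Modules.germ_restrictStalkNatIso_hom_app U.ι y F (U := V) hV) t
  have hψ : ∀ (V : (U : Scheme.{u}).Opens) (hV : y ∈ V) (t : Γ(U, V)),
      ψ ((U : Scheme.{u}).presheaf.germ V y hV t) =
        X.presheaf.germ (U.ι ''ᵁ V) (U.ι y) ⟨y, hV, rfl⟩ t := fun V hV t =>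
    ConcreteCategory.congr_hom (Scheme.Opens.germ_stalkIso_hom U y hV) t
  refine ⟨ψ, φ, ConcreteCategory.bijective_of_isIso (U.stalkIso y).hom,
    ConcreteCategory.bijective_of_isIso ((Scheme.Modules.restrictStalkNatIso U.ι y).app F).hom, fun c z => ?_, hφ⟩
  obtain ⟨V, hV, r, rfl⟩ := TopCat.Presheaf.exists_germ_eq (U : Scheme.{u}).presheaf c
  obtain ⟨V', hV', s, rfl⟩ := TopCat.Presheaf.exists_germ_eq (F.restrict U.ι).presheaf z
  have hW : y ∈ V ⊓ V' := ⟨hV, hV'⟩
  rw [← TopCat.Presheaf.germ_res_apply (U : Scheme.{u}).presheaf (homOfLE (inf_le_left : V ⊓ V' ≤ V)) y hW r,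
    ← TopCat.Presheaf.germ_res_apply (F.restrict U.ι).presheaf (homOfLE (inf_le_right : V ⊓ V' ≤ V')) y hW s,
    ← WeakAss.germ_smul (F := F.restrict U.ι) hW, hφ, hφ, hψ]
  erw [WeakAss.germ_smul (F := F) (V := U.ι ''ᵁ (V ⊓ V')) (x := U.ι y) ⟨y, hW, rfl⟩]
  refine congrArg₂ (· • ·) (congrArg (X.presheaf.germ (U.ι ''ᵁ (V ⊓ V')) (U.ι y) ⟨y, hW, rfl⟩) ?_) rfl
  change ((U.ι.appIso (V ⊓ V')).inv).hom _ = _
  rw [Scheme.Opens.ι_appIso]
  rfl

/-- An epimorphism from a free module onto a restriction amounts to sections spanning all stalks. -/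
theorem exists_epi_restrict_iff (F : X.Modules) (U : X.Opens) (n : ℕ) :
    (∃ π : FlatMod.freeMod (↑U) n ⟶ F.restrict U.ι, Epi π) ↔
      ∃ e : Fin n → Γ(F, U.ι ''ᵁ ⊤), ∀ y : (U : Scheme.{u}), Submodule.span (X.presheaf.stalk (U.ι y))
        (Set.range fun i => F.presheaf.germ (U.ι ''ᵁ ⊤) (U.ι y) ⟨y, trivial, rfl⟩ (e i)) = ⊤ := by
  have key : ∀ (g : Fin n → Γ(F.restrict U.ι, ⊤)) (y : (U : Scheme.{u})),
      Submodule.span ((U : Scheme.{u}).presheaf.stalk y)
        (Set.range fun i => (F.restrict U.ι).presheaf.germ ⊤ y trivial (g i)) = ⊤ ↔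
      Submodule.span (X.presheaf.stalk (U.ι y))
        (Set.range fun i => F.presheaf.germ (U.ι ''ᵁ ⊤) (U.ι y) ⟨y, trivial, rfl⟩
          (show Γ(F, U.ι ''ᵁ ⊤) from g i)) = ⊤ := by
    intro g y
    obtain ⟨ψ, φ, hψ, hφ, hlin, hgerm⟩ := exists_restrict_germ F U y
    constructor
    · intro h
      refine eq_top_iff.2 fun v _ => ?_
      obtain ⟨z, rfl⟩ := hφ.2 v
      obtain ⟨c, hc⟩ := (Submodule.mem_span_range_iff_exists_fun _).1 (h.ge (Submodule.mem_top (x := z)))
      rw [← hc, map_sum]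
      refine Submodule.sum_mem _ fun i _ => ?_
      rw [hlin, hgerm]
      exact Submodule.smul_mem _ _ (Submodule.subset_span ⟨i, rfl⟩)
    · intro h
      refine eq_top_iff.2 fun z _ => ?_
      obtain ⟨c, hc⟩ := (Submodule.mem_span_range_iff_exists_fun _).1 (h.ge (Submodule.mem_top (x := φ z)))
      choose d hd using fun i => hψ.2 (c i)
      have hz : z = ∑ i, d i • (F.restrict U.ι).presheaf.germ ⊤ y trivial (g i) := hφ.1 (by
        rw [map_sum, ← hc]
        exact Finset.sum_congr rfl fun i _ => by rw [hlin, hgerm, hd])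
      rw [hz]
      exact Submodule.sum_mem _ fun i _ => Submodule.smul_mem _ _ (Submodule.subset_span ⟨i, rfl⟩)
  constructor
  · rintro ⟨π, hπ⟩
    exact ⟨basisImage π, fun y => (key _ y).1 ((epi_iff_span π).1 hπ y)⟩
  · rintro ⟨e, he⟩
    refine ⟨Sigma.desc fun i => GrothLib.FinCov.homOfSection (N := F.restrict U.ι) (e i),
      (epi_iff_span _).2 fun y => ?_⟩
    simp only [basisImage_desc]
    exact (key e y).2 (he y)

end GrothLib.FittSheaf
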